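import Groth.Agent.L26.JacRat.TorsCount
import Groth.Agent.L26.JacRat.Coarse
import Groth.Agent.L26.AV.InterPic
import Groth.Agent.L08.Cube.MulSurj
import Groth.Agent.L21.RR.Point
import Groth.Agent.L21.RR.BaseChange
import Groth.Agent.S6545

/-!
# The Picard group of a smooth proper curve over an algebraically closed field
-/

set_option autoImplicit false
set_option linter.style.haveILetI false
set_option linter.unusedSectionVars false
set_option backward.isDefEq.respectTransparency false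
set_option backward.isDefEq.respectTransparency.types false

universe u

open CategoryTheory CategoryTheory.Limits AlgebraicGeometry MonoidalCategory CartesianMonoidalCategory MonObj GrpObj
open Groth.L25.HomScheme

noncomputable section

namespace Groth.L21.CurveKummer

open Groth.Agent.L26.PicRep Groth.Agent.L26.PicSm Groth.Agent.L26.JacRat Groth.Agent.Elliptic
open Groth.Agent.AV.InterPic (picLaw rep cl_rep isInvertible_rep)
attribute [local instance] Groth.L08.Cube.clMonoid Groth.Agent.L26.PicSm.curveOver Groth.Agent.AV.InterPic.picLaw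

/-- A rational point of the target of a surjective morphism lifts. -/
theorem exists_lift_pt {k : Type u} [Field k] [IsAlgClosed k] {A B : Over (Spec (CommRingCat.of k))}
    [LocallyOfFiniteType A.hom] [LocallyOfFiniteType B.hom] (φ : A ⟶ B) [Surjective φ.left]
    (a : onePt k ⟶ B) : ∃ b : onePt k ⟶ A, b ≫ φ = a := by
  haveI : JacobsonSpace ↥A.left := LocallyOfFiniteType.jacobsonSpace A.hom
  let pt := a.left (IsLocalRing.closedPoint k)
  have hpt : IsClosed ({pt} : Set B.left) := (pointEquivClosedPoint B.hom ⟨a.left, Over.w a⟩).2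
  obtain ⟨z, hz⟩ := φ.left.surjective pt
  obtain ⟨y, hy, hyc⟩ := nonempty_inter_closedPoints (Z := φ.left ⁻¹' {pt}) ⟨z, hz⟩
    (hpt.preimage φ.left.continuous).isLocallyClosed
  refine ⟨Over.homMk (pointOfClosedPoint A.hom y hyc) (pointOfClosedPoint_comp _ _ _), Over.OverMorphism.ext ?_⟩
  refine ext_of_apply_closedPoint_eq B.hom ?_ (Over.w a) ?_
  · show (_ ≫ φ.left) ≫ B.hom = _
    rw [Category.assoc, Over.w φ]
    exact pointOfClosedPoint_comp _ _ _
  · show φ.left (pointOfClosedPoint A.hom y hyc (IsLocalRing.closedPoint k)) = pt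
    rw [pointOfClosedPoint_apply]
    exact hy

variable (k : Type u) [Field k] [IsAlgClosed k] (X : Scheme.{u}) [X.Over (Spec (CommRingCat.of k))]
  [IsIntegral X] [IsProper (X ↘ Spec (CommRingCat.of k))] [Smooth (X ↘ Spec (CommRingCat.of k))]

include k

/-- The degree on classes, with its values. -/
theorem exists_degHom' (hdim : topologicalKrullDim X = 1) :
    ∃ d : Additive (PicLoc.PicSet X) →+ ℤ,
      (∀ L hL, d (Additive.ofMul (PicGrp.cls L hL)) = Curv2.deg k X L 1) ∧
      Function.Surjective d ∧ ∀ p, d p = 0 → ∀ n : ℕ, 1 ≤ n → ∃ q, n • q = p := by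
  haveI := Groth.L25.GeomIrred.geometricallyIrreducible_of_isAlgClosed (X ↘ Spec (CommRingCat.of k))
  haveI : GeometricallyConnected (X ↘ Spec (CommRingCat.of k)) := ⟨fun K _ t P p₁ p₂ H => by
    haveI : IrreducibleSpace ↥P := GeometricallyIrreducible.geometrically_irreducibleSpace
      (f := X ↘ Spec (CommRingCat.of k)) _ _ _ H
    infer_instance⟩
  haveI := Groth.L21.SmoothCurve.smoothOfRelativeDimension_one (X ↘ Spec (CommRingCat.of k)) hdim
  haveI := Groth.L21.RR.isNoetherian_of_proper (X := X) k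
  let d₀ : Additive (PicLoc.PicSet X) → ℤ := fun p => Curv2.deg k X (rep (Additive.toMul p)) 1
  have hadd : ∀ p q, d₀ (p + q) = d₀ p + d₀ q := fun p q => by
    have h : PicF.cl (rep (Additive.toMul p * Additive.toMul q)) =
        PicF.cl (CohB1.tensorMod (rep (Additive.toMul p)) (rep (Additive.toMul q))) := by
      rw [cl_rep, ← PicGrp.mulCl_cl, cl_rep, cl_rep, PicGrp.mul_val]
    obtain ⟨e⟩ := (PicGrp.cl_eq_cl_iff _ _).1 h
    show Curv2.deg k X (rep (Additive.toMul p * Additive.toMul q)) 1 = _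
    rw [Groth.L21.RR.deg_congr k e 1]
    exact Groth.L21.Duality.deg_tensor hdim (isInvertible_rep _) (isInvertible_rep _)
  refine ⟨AddMonoidHom.mk' d₀ hadd, fun L hL => ?_, fun m => ?_, fun p hp n hn => ?_⟩
  · obtain ⟨e⟩ := (PicGrp.cl_eq_cl_iff _ _).1 (cl_rep (PicGrp.cls L hL))
    exact Groth.L21.RR.deg_congr k e 1
  · obtain ⟨z, hz, hzne, hp⟩ := Groth.L21.RR.exists_regular_point (X := X) k hdim
    obtain ⟨L, hL, hdeg⟩ :=
      Groth.L21.RR.exists_deg_one k hdim.le hz hzne (Groth.L21.RR.isRat_of_isClosed k hz) hp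
    refine ⟨m • Additive.ofMul (PicGrp.cls L hL), ?_⟩
    rw [map_zsmul, smul_eq_mul]
    show m * Curv2.deg k X (rep (PicGrp.cls L hL)) 1 = m
    obtain ⟨e⟩ := (PicGrp.cl_eq_cl_iff _ _).1 (cl_rep (PicGrp.cls L hL))
    rw [Groth.L21.RR.deg_congr k e 1, hdeg, _root_.mul_one]
  · obtain ⟨x₀, -, hx₀⟩ := (isClosed_univ (X := X)).exists_closed_singleton Set.univ_nonempty
    let σ := pointOfClosedPoint (X ↘ Spec (CommRingCat.of k)) x₀ hx₀
    have hσ : σ ≫ (X ↘ Spec (CommRingCat.of k)) = 𝟙 _ := pointOfClosedPoint_comp _ _ _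
    obtain ⟨J, ξ, hJ, hpr, hsm, hint⟩ := exists_jacobian k σ hσ
    letI := grpObjRep hJ
    haveI := isCommMonObj_of_isProper_of_geometricallyIntegral J
    let e : PicF.XT (X ↘ Spec (CommRingCat.of k)) (onePt k) ⟶ X :=
      pullback.fst (X ↘ Spec (CommRingCat.of k)) (𝟙 (Spec (CommRingCat.of k)))
    haveI : IsIso e := inferInstanceAs (IsIso (pullback.fst _ _))
    let M := rep (Additive.toMul p)
    have hM : PicF.IsInvertible M := isInvertible_rep _
    have hMi := Groth.L18.Ample.isInvertible_pullback e hM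
    obtain ⟨x, hx, hxM⟩ := exists_invU (c := PicF.cl ((Scheme.Modules.pullback e).obj M)) ⟨_, rfl, hMi⟩
    have hdeg : ∀ t, degU (X ↘ Spec (CommRingCat.of k)) (onePt k) x t = 0 := fun t => by
      rw [← deg_eq_degU (𝟙 (Spec (CommRingCat.of k))) hMi hxM.symm t]
      refine (Groth.L21.RR.deg_pullback (k := k) (K := k) e ?_ hM).trans hp
      rw [Algebra.algebraMap_self, CommRingCat.ofHom_id, Spec.map_id]
      exact IsPullback.of_hasPullback _ _
    obtain ⟨a, ha, -⟩ := hJ (onePt k) ⟨x, ⟨hx, invU_field_eq_one (map_mem_invU _ hx)⟩, hdeg⟩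
    have hav : valAt ξ a = x := congrArg Subtype.val ha
    haveI := Groth.L08.Cube.surjective_pow (A := J) hn
    obtain ⟨b, hb⟩ := exists_lift_pt (𝟙 J ^ n) a
    rw [MonObj.comp_pow, Category.comp_id] at hb
    have pow_val : ∀ m : ℕ, valAt ξ (b ^ m) = valAt ξ b ^ m := fun m => by
      induction m with
      | zero => rw [pow_zero, pow_zero, valAt_one hJ]
      | succ m ih => rw [pow_succ, pow_succ, valAt_mul hJ, ih]
    have hbn : valAt ξ b ^ n = x := by rw [← pow_val, hb, hav]
    obtain ⟨L, hL, hLi⟩ := (valAt_mem (ξ := ξ) b).1.1.1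
    refine ⟨Additive.ofMul (⟨PicF.pullCl (inv e) (PicF.cl L),
      _, rfl, Groth.L18.Ample.isInvertible_pullback (inv e) hLi⟩ : PicLoc.PicSet X), ?_⟩
    apply Additive.toMul.injective
    apply Subtype.ext
    rw [toMul_nsmul]
    have hpow : ∀ (c : PicLoc.PicSet X) (m : ℕ), (c ^ m).1 = (c.1 : PicF.Cl X) ^ m := fun c m => by
      induction m with
      | zero => rw [pow_zero, pow_zero, PicGrp.one_val]; rfl
      | succ m ih => rw [pow_succ, pow_succ, PicGrp.mul_val, ih]; rfl
    refine (hpow _ n).trans ?_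
    show (Groth.L08.Cube.pullClHom (inv e) (PicF.cl L)) ^ n = (Additive.toMul p).1
    rw [← map_pow, hL, ← Units.val_pow_eq_pow_val, hbn, hxM]
    show PicF.pullCl (inv e) (PicF.pullCl e (PicF.cl M)) = _
    rw [← PicLoc.pullCl_comp, IsIso.inv_hom_id, PicLoc.pullCl_id]
    exact cl_rep _

/-- The degree on classes. -/
theorem exists_degHom (hdim : topologicalKrullDim X = 1) :
    ∃ d : Additive (PicLoc.PicSet X) →+ ℤ,
      Function.Surjective d ∧ ∀ p, d p = 0 → ∀ n : ℕ, 1 ≤ n → ∃ q, n • q = p :=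
  let ⟨d, _, h⟩ := exists_degHom' k X hdim
  ⟨d, h⟩

/-- The number of classes killed by `n`. -/
theorem card_torsion (hdim : topologicalKrullDim X = 1) (n : ℕ) (hn : (n : k) ≠ 0) :
    Nat.card {p : Additive (PicLoc.PicSet X) // n • p = 0} = n ^ (2 * Curv2.genus k X) := by
  rw [← Groth.Agent.S6545.result k X hdim n (isUnit_iff_ne_zero.2 hn)]
  have hpow : ∀ (c : PicLoc.PicSet X) (m : ℕ), (c ^ m).1 = (c.1 : PicF.Cl X) ^ m := fun c m => by
    induction m with
    | zero => rw [pow_zero, pow_zero, PicGrp.one_val]; rfl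
    | succ m ih => rw [pow_succ, pow_succ, PicGrp.mul_val, ih]; rfl
  have hiff : ∀ M : X.Modules, Nonempty (CohB1.tensorPow M n ≅ Coh.structureModule X) ↔
      (PicF.cl M) ^ n = (1 : PicF.Cl X) := fun M => by
    rw [← PicGrp.cl_eq_cl_iff, Groth.L08.Cube.cl_tensorPow]
    rfl
  refine Nat.card_congr
    { toFun := fun p => ⟨(Additive.toMul p.1).1, rep (Additive.toMul p.1), cl_rep _, isInvertible_rep _,
        (hiff _).2 ?_⟩
      invFun := fun c => ⟨Additive.ofMul (⟨c.1, ?_⟩ : PicLoc.PicSet X), ?_⟩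
      left_inv := fun p => rfl
      right_inv := fun c => rfl }
  · rw [cl_rep, ← hpow, ← toMul_nsmul, p.2, toMul_zero, PicGrp.one_val]
    rfl
  · obtain ⟨M, hM, hMi, -⟩ := c.2
    exact ⟨M, hM, hMi⟩
  · obtain ⟨M, hM, -, hi⟩ := c.2
    apply Additive.toMul.injective
    apply Subtype.ext
    rw [toMul_nsmul, toMul_zero, PicGrp.one_val]
    refine (hpow _ n).trans ?_
    show (c.1 : PicF.Cl X) ^ n = _
    rw [← hM]
    exact (hiff M).1 hi

end Groth.L21.CurveKummer
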