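import Groth.Agent.L21.CurveKummer.Alg
import Groth.Agent.L21.CurveKummer.Pic
import Groth.Agent.L28.GmH1.Equiv
import Groth.Agent.L28.GmTorsion.Basic
import Groth.Agent.L27.LimCoh.HMaps
import Groth.Agent.S4334
import Groth.Prelude.Def_SixF3
import Mathlib.Algebra.Algebra.Rat
import Mathlib.GroupTheory.QuotientGroup.Basic
import Mathlib.FieldTheory.IsAlgClosed.Basic

/-!
# First and second cohomology of roots of unity on a curve
-/

set_option autoImplicit false
set_option linter.style.haveILetI false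
set_option linter.unusedSectionVars false
set_option backward.isDefEq.respectTransparency false
set_option backward.isDefEq.respectTransparency.types false

universe u

open CategoryTheory CategoryTheory.Limits AlgebraicGeometry Opposite CategoryTheory.Abelian
open EtSix

noncomputable section

namespace Groth.L21.CurveKummer

attribute [local instance] Groth.Agent.AV.InterPic.picLaw

/-- With a primitive root in the base field, the roots of unity are constant. -/
theorem nonempty_const_iso_mu {k : Type u} [Field k] [IsAlgClosed k] {X : Scheme.{u}}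
    (f : X ⟶ Spec (CommRingCat.of k)) (n : ℕ) [NeZero n] (hn : (n : k) ≠ 0) :
    Nonempty (EtCoh.const X (ZMod n) ≅ EtCoh.mu X n) := by
  haveI : NeZero (n : k) := ⟨hn⟩
  obtain ⟨ζ, hζ⟩ := IsSepClosed.exists_aeval_eq_zero k (Polynomial.cyclotomic n k)
    (Polynomial.degree_cyclotomic_pos n k (Nat.pos_of_ne_zero (NeZero.ne n))).ne' (Polynomial.separable_cyclotomic n k)
  let i : k →+* Γ(X, ⊤) := ((Scheme.ΓSpecIso (CommRingCat.of k)).inv ≫ f.appTop).hom
  have hp : IsPrimitiveRoot ζ n := Polynomial.isRoot_cyclotomic_iff.1 (by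
    simpa [Polynomial.IsRoot, Polynomial.aeval_def] using hζ)
  have hu : IsUnit (n : Γ(X, ⊤)) := by
    have := (isUnit_iff_ne_zero.2 hn).map i
    rwa [map_natCast] at this
  have h0 : Polynomial.aeval (i ζ) (Polynomial.cyclotomic n ℤ) = 0 := by
    have h1 : Polynomial.aeval ζ (Polynomial.cyclotomic n ℤ) = 0 := by
      rw [Polynomial.aeval_def, Polynomial.eval₂_eq_eval_map, Polynomial.map_cyclotomic]
      simpa [Polynomial.IsRoot, Polynomial.aeval_def] using hζ
    have h4 := Polynomial.aeval_algHom_apply i.toIntAlgHom ζ (Polynomial.cyclotomic n ℤ)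
    rw [h1, map_zero] at h4
    exact h4
  have hpow : (i ζ) ^ n = 1 := by rw [← map_pow, hp.pow_eq_one, map_one]
  haveI := Groth.L27.MuConst.isIso_toMu n (i ζ) hpow hu h0
  exact ⟨asIso (Groth.L27.MuConst.toMu n (i ζ) hpow)⟩

/-- Cohomology along an isomorphism of sheaves. -/
def congrH {X : Scheme.{u}} {F G : EtCoh.Ab X} (e : F ≅ G) (q : ℕ) : EtCoh.H X F q ≃+ EtCoh.H X G q :=
  ((EtCoh.HF X q).mapIso e).addCommGroupIsoToAddEquiv

variable (k : Type u) [Field k] [IsAlgClosed k] (X : Scheme.{u}) [X.Over (Spec (CommRingCat.of k))]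
  [IsIntegral X] [IsProper (X ↘ Spec (CommRingCat.of k))] [Smooth (X ↘ Spec (CommRingCat.of k))]

include k

/-- Global units are divisible. -/
theorem exists_nsmul_H0 (n : ℕ) (hn : 0 < n) (y : EtCoh.H X (EtCoh.Gm X) 0) : ∃ z, n • z = y := by
  let f := X ↘ Spec (CommRingCat.of k)
  let i : k →+* Γ(X, ⊤) := ((Scheme.ΓSpecIso (CommRingCat.of k)).inv ≫ f.appTop).hom
  haveI : IsDomain Γ(X, ⊤) := inferInstance
  have hfin : i.Finite := (finite_appTop_of_universallyClosed k f).comp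
    (RingHom.Finite.of_surjective _
      (ConcreteCategory.bijective_of_isIso (Scheme.ΓSpecIso (CommRingCat.of k)).inv).2)
  let t := Groth.L27.LimCoh.secEq (EtCoh.Gm X) y
  let a : Γ(X, ⊤)ˣ := Groth.L27.MuConst.toUnit (U := EtCoh.top X) t
  obtain ⟨c, hc⟩ := (IsAlgClosed.ringHom_bijective_of_isIntegral i (RingHom.IsIntegral.of_finite hfin)).2 (a : Γ(X, ⊤))
  obtain ⟨r, hr⟩ := IsAlgClosed.exists_pow_nat_eq c hn
  have hr0 : r ≠ 0 := by
    rintro rfl
    rw [zero_pow hn.ne'] at hr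
    refine a.ne_zero ?_
    rw [← hc, ← hr, map_zero]
  let b : Γ(X, ⊤)ˣ := Units.map i.toMonoidHom (Units.mk0 r hr0)
  let s : (EtCoh.Gm X).obj.obj (op (EtCoh.top X)) := Groth.L27.MuConst.ofUnit (U := EtCoh.top X) b
  refine ⟨(Groth.L27.LimCoh.secEq (EtCoh.Gm X)).symm s, (Groth.L27.LimCoh.secEq (EtCoh.Gm X)).injective ?_⟩
  rw [map_nsmul, AddEquiv.apply_symm_apply]
  refine Groth.L27.MuConst.toUnit_injective (Units.ext ?_)
  rw [Groth.L27.MuConst.toUnit_nsmul, Units.val_pow_eq_pow_val]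
  show i r ^ n = (a : Γ(X, ⊤))
  rw [← map_pow, hr]
  exact hc

/-- The second cohomology of the roots of unity. -/
theorem nonempty_H2 (hdim : topologicalKrullDim X = 1) (n : ℕ) [NeZero n] (hn : (n : k) ≠ 0) :
    Nonempty (EtCoh.H X (EtCoh.mu X n) 2 ≃+ ZMod n) := by
  haveI : SmoothOfRelativeDimension 1 (X ↘ Spec (CommRingCat.of k)) :=
    Groth.L21.SmoothCurve.smoothOfRelativeDimension_one (X ↘ Spec (CommRingCat.of k)) hdim
  let i : k →+* Γ(X, ⊤) := ((Scheme.ΓSpecIso (CommRingCat.of k)).inv ≫ (X ↘ Spec (CommRingCat.of k)).appTop).hom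
  have hu : IsUnit (n : Γ(X, ⊤)) := by
    have := (isUnit_iff_ne_zero.2 hn).map i
    rwa [map_natCast] at this
  have h := Groth.L28.GmTorsion.epi_powMap hu
  obtain ⟨hsurj, hker⟩ := Groth.Agent.S4334.result k (X ↘ Spec (CommRingCat.of k)) n hn h
  obtain ⟨e⟩ := Groth.L28.GmH1.nonempty_equiv_pic X
  obtain ⟨d, hd, hdiv⟩ := exists_degHom k X hdim
  let ψ : Additive (PicLoc.PicSet X) →+ EtCoh.H X (EtCoh.mu X n) 2 := (kummerBoundary h 1).comp e.toAddMonoidHom
  let φ : Additive (PicLoc.PicSet X) →+ ZMod n := (Int.castAddHom (ZMod n)).comp d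
  have hψ : Function.Surjective ψ := fun x => by
    obtain ⟨y, hy⟩ := hsurj x
    exact ⟨e.symm y, (congrArg _ (e.apply_symm_apply y)).trans hy⟩
  have hφ : Function.Surjective φ := ZMod.intCast_surjective.comp hd
  have hψmem : ∀ p, p ∈ ψ.ker ↔ ∃ q, n • q = p := fun p => by
    have h1 := SetLike.ext_iff.1 hker (e p)
    rw [AddMonoidHom.mem_ker, AddMonoidHom.mem_range] at h1
    refine Iff.trans (AddMonoidHom.mem_ker) (h1.trans ⟨?_, ?_⟩)
    · rintro ⟨y, hy⟩
      refine ⟨e.symm y, e.injective ?_⟩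
      rw [map_nsmul, e.apply_symm_apply]
      exact hy
    · rintro ⟨q, rfl⟩
      exact ⟨e q, (map_nsmul e n q).symm⟩
  have hker2 : ψ.ker = φ.ker := by
    ext p
    rw [hψmem, AddMonoidHom.mem_ker]
    constructor
    · rintro ⟨q, rfl⟩
      rw [map_nsmul, nsmul_eq_mul, ZMod.natCast_self, zero_mul]
    · intro hp
      obtain ⟨m, hm⟩ := (ZMod.intCast_zmod_eq_zero_iff_dvd (d p) n).1 hp
      obtain ⟨q, hq⟩ := hd m
      obtain ⟨r, hr⟩ := hdiv (p - n • q) (by rw [map_sub, map_nsmul, hq, hm, nsmul_eq_mul, sub_self]) n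
        (NeZero.pos n)
      exact ⟨r + q, by rw [nsmul_add, hr, sub_add_cancel]⟩
  exact ⟨(QuotientAddGroup.quotientKerEquivOfSurjective ψ hψ).symm.trans
    ((QuotientAddGroup.quotientAddEquivOfEq hker2).trans (QuotientAddGroup.quotientKerEquivOfSurjective φ hφ))⟩

/-- The first cohomology of the roots of unity. -/
theorem nonempty_H1 (hdim : topologicalKrullDim X = 1) (n : ℕ) [NeZero n] (hn : (n : k) ≠ 0) :
    Nonempty (EtCoh.H X (EtCoh.mu X n) 1 ≃+ (Fin (2 * Curv2.genus k X) → ZMod n)) := by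
  let i : k →+* Γ(X, ⊤) := ((Scheme.ΓSpecIso (CommRingCat.of k)).inv ≫ (X ↘ Spec (CommRingCat.of k)).appTop).hom
  have hu : IsUnit (n : Γ(X, ⊤)) := by
    have := (isUnit_iff_ne_zero.2 hn).map i
    rwa [map_natCast] at this
  have h := Groth.L28.GmTorsion.epi_powMap hu
  obtain ⟨e⟩ := Groth.L28.GmH1.nonempty_equiv_pic X
  let ι : EtCoh.H X (EtCoh.mu X n) 1 →+ EtCoh.H X (EtCoh.Gm X) 1 :=
    (Ext.mk₀ (EtCoh.muι X n)).postcomp _ (add_zero 1)
  have hι : Function.Injective ι := (injective_iff_map_eq_zero ι).2 fun x hx => by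
    obtain ⟨y, hy⟩ := Ext.covariant_sequence_exact₁ _ (kummerShortExact h) x hx (zero_add 1)
    obtain ⟨z, hz⟩ := exists_nsmul_H0 k X n (NeZero.pos n) y
    rw [← hy, ← hz, ← Groth.L28.GmTorsion.comp_mk₀_powMap n 0 z]
    refine (Ext.comp_assoc_of_second_deg_zero z _ _ _).trans ?_
    refine Eq.trans ?_ (Ext.comp_zero z _ 1 _ (zero_add 1))
    exact congrArg (fun w => z.comp w (zero_add 1)) (kummerShortExact h).comp_extClass
  have hrange : ∀ ξ : EtCoh.H X (EtCoh.Gm X) 1, n • ξ = 0 → ∃ x, ι x = ξ := fun ξ hξ =>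
    Ext.covariant_sequence_exact₂ _ (kummerShortExact h) ξ
      ((Groth.L28.GmTorsion.comp_mk₀_powMap n 1 ξ).trans hξ)
  have hkill : ∀ x : EtCoh.H X (EtCoh.mu X n) 1, n • x = 0 := fun x => hι (by
    rw [map_nsmul, map_zero, ← Groth.L28.GmTorsion.comp_mk₀_powMap n 1 (ι x)]
    refine (Ext.comp_assoc_of_second_deg_zero _ _ _ _).trans ?_
    rw [Ext.mk₀_comp_mk₀, show EtCoh.muι X n ≫ EtCoh.powMap X n = 0 from kernel.condition _, Ext.mk₀_zero,
      Ext.comp_zero])
  refine nonempty_addEquiv_pi n (NeZero.pos n) _ _ hkill fun m hm => ?_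
  rw [← card_torsion k X hdim m (fun h0 => hn (by obtain ⟨c, rfl⟩ := hm; rw [Nat.cast_mul, h0, zero_mul]))]
  have hnm : ∀ p : Additive (PicLoc.PicSet X), m • p = 0 → n • e p = 0 := fun p hp => by
    obtain ⟨c, rfl⟩ := hm
    rw [← map_nsmul, mul_comm, mul_nsmul', hp, nsmul_zero, map_zero]
  refine Nat.card_congr (Equiv.ofBijective
    (fun x => (⟨e.symm (ι x.1), by rw [← map_nsmul, ← map_nsmul, x.2, map_zero, map_zero]⟩ :
      {p : Additive (PicLoc.PicSet X) // m • p = 0})) ⟨fun x y hxy => ?_, fun p => ?_⟩)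
  · exact Subtype.ext (hι (e.symm.injective (congrArg Subtype.val hxy)))
  · obtain ⟨x, hx⟩ := hrange (e p.1) (hnm p.1 p.2)
    refine ⟨⟨x, hι ?_⟩, Subtype.ext ((congrArg e.symm hx).trans (e.symm_apply_apply _))⟩
    rw [map_nsmul, hx, ← map_nsmul, p.2, map_zero, map_zero]

end Groth.L21.CurveKummer
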