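import Mathlib.Algebra.Module.CharacterModule
import Mathlib.GroupTheory.Exponent
import Mathlib.GroupTheory.SpecificGroups.Cyclic
import Mathlib.Data.ZMod.Basic

/-!
# Finite abelian groups with prescribed torsion counts
-/

set_option autoImplicit false
set_option linter.style.haveILetI false

universe v

namespace Groth.L21.CurveKummer

theorem card_zmod_torsion (n d : ℕ) [NeZero n] (hd : d ∣ n) :
    Nat.card {a : ZMod n // d • a = 0} = d := by
  have h := IsAddCyclic.card_nsmulAddMonoidHom_ker (G := ZMod n) d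
  rw [Nat.card_zmod, Nat.gcd_eq_right hd] at h
  exact h

/-- An element of maximal order `n` in a group killed by `n` splits off. -/
theorem exists_retraction {A : Type v} [AddCommGroup A] (n : ℕ) [NeZero n] (hA : ∀ a : A, n • a = 0) (a : A)
    (ha : addOrderOf a = n) : ∃ (s : ZMod n →+ A) (p : A →+ ZMod n), ∀ x, p (s x) = x := by
  have hs0 : (zmultiplesHom A a) (n : ℤ) = 0 := by
    rw [zmultiplesHom_apply, natCast_zsmul, hA]
  let s : ZMod n →+ A := ZMod.lift n ⟨zmultiplesHom A a, hs0⟩
  have hsz : ∀ m : ℤ, s (m : ZMod n) = m • a := fun m => ZMod.lift_coe n _ m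
  have hs : Function.Injective s := by
    rw [ZMod.lift_injective]
    intro m hm
    rw [zmultiplesHom_apply, ← addOrderOf_dvd_iff_zsmul_eq_zero, ha] at hm
    exact (ZMod.intCast_zmod_eq_zero_iff_dvd m n).2 hm
  let t : AddCircle (1 : ℚ) := (((1 : ℚ) / (n : ℚ)) : ℚ)
  have ht : addOrderOf t = n := AddCircle.addOrderOf_period_div (Nat.pos_of_ne_zero (NeZero.ne n))
  have hφ0 : (zmultiplesHom (AddCircle (1 : ℚ)) t) (n : ℤ) = 0 := by
    rw [zmultiplesHom_apply, natCast_zsmul]
    conv_lhs => rw [← ht]
    exact addOrderOf_nsmul_eq_zero t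
  let φ : ZMod n →+ AddCircle (1 : ℚ) := ZMod.lift n ⟨zmultiplesHom _ t, hφ0⟩
  have hφz : ∀ m : ℤ, φ (m : ZMod n) = m • t := fun m => ZMod.lift_coe n _ m
  have hφ : Function.Injective φ := by
    rw [ZMod.lift_injective]
    intro m hm
    rw [zmultiplesHom_apply, ← addOrderOf_dvd_iff_zsmul_eq_zero, ht] at hm
    exact (ZMod.intCast_zmod_eq_zero_iff_dvd m n).2 hm
  obtain ⟨χ, hχ⟩ := CharacterModule.dual_surjective_of_injective (R := ℤ) s.toIntLinearMap hs φ
  have hχs : ∀ x, χ (s x) = φ x := fun x => DFunLike.congr_fun hχ x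
  have hrange : ∀ y : A, ∃ x, φ x = χ y := fun y => by
    have h0 : n • χ y = 0 := by rw [← map_nsmul, hA, map_zero]
    induction hq : χ y using QuotientAddGroup.induction_on with
    | _ q =>
      rw [hq, ← QuotientAddGroup.mk_nsmul, QuotientAddGroup.eq_zero_iff] at h0
      obtain ⟨m, hm⟩ := AddSubgroup.mem_zmultiples_iff.1 h0
      rw [zsmul_one, nsmul_eq_mul] at hm
      refine ⟨(m : ZMod n), ?_⟩
      rw [hφz]
      show ((m • ((1 : ℚ) / n) : ℚ) : AddCircle (1 : ℚ)) = _
      rw [zsmul_eq_mul, hm, mul_one_div, mul_div_cancel_left₀ _ (by exact_mod_cast NeZero.ne n)]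
  choose p hp using hrange
  refine ⟨s, AddMonoidHom.mk' p fun x y => hφ (by rw [hp, map_add, map_add, hp, hp]), fun x => hφ ?_⟩
  exact (hp _).trans (hχs x)

/-- A group killed by `n` with `d ^ r` elements killed by each divisor `d` of `n` is free of rank `r` over `ℤ/n`. -/
theorem nonempty_addEquiv_pi (n : ℕ) (hn : 1 ≤ n) : ∀ (r : ℕ) (A : Type v) [AddCommGroup A],
    (∀ a : A, n • a = 0) → (∀ d, d ∣ n → Nat.card {a : A // d • a = 0} = d ^ r) →
    Nonempty (A ≃+ (Fin r → ZMod n))
  | 0, A, _, hA, hc => by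
    have h1 := hc n dvd_rfl
    rw [pow_zero, Nat.card_eq_one_iff_unique] at h1
    obtain ⟨h1, -⟩ := h1
    haveI : Subsingleton A := ⟨fun a b => congrArg Subtype.val (h1.elim ⟨a, hA a⟩ ⟨b, hA b⟩)⟩
    haveI : Unique A := uniqueOfSubsingleton 0
    exact ⟨{ toFun := fun _ => 0, invFun := fun _ => 0, left_inv := fun _ => Subsingleton.elim _ _,
             right_inv := fun _ => Subsingleton.elim _ _, map_add' := fun _ _ => Subsingleton.elim _ _ }⟩
  | r + 1, A, _, hA, hc => by
    haveI : NeZero n := ⟨by omega⟩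
    have hcard : Nat.card A = n ^ (r + 1) := by
      rw [← hc n dvd_rfl]
      exact (Nat.card_congr (Equiv.subtypeUnivEquiv hA)).symm
    haveI : Finite A := Nat.finite_of_card_ne_zero (by rw [hcard]; exact pow_ne_zero _ (by omega))
    obtain ⟨a, ha⟩ := AddMonoid.exists_addOrderOf_eq_exponent (G := A) AddMonoid.ExponentExists.of_finite
    have hexp : AddMonoid.exponent A = n := by
      have hd : AddMonoid.exponent A ∣ n := AddMonoid.exponent_dvd_of_forall_nsmul_eq_zero hA
      have h2 := hc _ hd
      rw [Nat.card_congr (Equiv.subtypeUnivEquiv (AddMonoid.exponent_nsmul_eq_zero (G := A))), hcard] at h2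
      exact (Nat.pow_left_injective (by omega) h2).symm
    obtain ⟨s, p, hps⟩ := exists_retraction n hA a (ha.trans hexp)
    let C := p.ker
    let e : A ≃+ ZMod n × C :=
      { toFun := fun x => (p x, ⟨x - s (p x), by rw [AddMonoidHom.mem_ker, map_sub, hps, sub_self]⟩)
        invFun := fun y => s y.1 + y.2
        left_inv := fun x => add_sub_cancel _ _
        right_inv := fun y => by
          obtain ⟨u, c, hc'⟩ := y
          have h : p (s u + c) = u := by rw [map_add, hps, AddMonoidHom.mem_ker.1 hc', add_zero]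
          exact Prod.ext h (Subtype.ext (show s u + c - s (p (s u + c)) = c by rw [h, add_sub_cancel_left]))
        map_add' := fun x y => Prod.ext (map_add p x y) (Subtype.ext (by
          show x + y - s (p (x + y)) = (x - s (p x)) + (y - s (p y))
          rw [map_add, map_add]; abel)) }
    obtain ⟨eC⟩ := nonempty_addEquiv_pi n hn r C (fun c => Subtype.ext (by simp [hA])) fun d hd => by
      have hd0 : 0 < d := Nat.pos_of_dvd_of_pos hd (by omega)
      let f : {x : A // d • x = 0} ≃ {u : ZMod n // d • u = 0} × {c : C // d • c = 0} :=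
        { toFun := fun x => (⟨(e x.1).1, by rw [← Prod.smul_fst, ← map_nsmul, x.2, map_zero]; rfl⟩,
            ⟨(e x.1).2, by rw [← Prod.smul_snd, ← map_nsmul, x.2, map_zero]; rfl⟩)
          invFun := fun y => ⟨e.symm (y.1.1, y.2.1), by
            rw [← map_nsmul, Prod.smul_mk, y.1.2, y.2.2, show ((0 : ZMod n), (0 : C)) = 0 from rfl, map_zero]⟩
          left_inv := fun x => Subtype.ext (e.symm_apply_apply x.1)
          right_inv := fun y => Prod.ext (Subtype.ext (congrArg Prod.fst (e.apply_symm_apply _)))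
            (Subtype.ext (congrArg Prod.snd (e.apply_symm_apply _))) }
      have h3 := Nat.card_congr f
      rw [hc d hd, Nat.card_prod, card_zmod_torsion n d hd, pow_succ'] at h3
      exact (Nat.eq_of_mul_eq_mul_left hd0 h3).symm
    exact ⟨(e.trans ((AddEquiv.refl _).prodCongr eC)).trans
      { toEquiv := Fin.consEquiv (fun _ => ZMod n)
        map_add' := fun x y => (funext fun i => by refine Fin.cases ?_ (fun j => ?_) i <;> simp [Fin.consEquiv]) }⟩

end Groth.L21.CurveKummer
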